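import Mathlib
import Cfsg.Agent.Lib.Linear.Unipotent

/-!
# A group acting faithfully on the natural module of `SL₂(F)` and containing it

`Conf`: `G` acts faithfully on `F²` and contains a copy of `SL₂(F)`.  Root elements, the stabiliser of the
first axis and semilinearity of the elements normalising the copy.
-/

set_option autoImplicit false
set_option linter.unusedSectionVars false
set_option linter.style.haveILetI false

namespace Cfsg.Agent.Lib.NatSL2Sylow65

open Matrix Cfsg.Agent.Lib.Linear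

/-- `SL₂(F)`. -/
abbrev SL2 (F : Type*) [Field F] := Matrix.SpecialLinearGroup (Fin 2) F

/-- A faithful action on `F²` together with a copy of `SL₂(F)` acting naturally. -/
structure Conf (G : Type*) [Group G] (F : Type*) [Field F] [DistribMulAction G (Fin 2 → F)] where
  /-- the copy of `SL₂(F)` -/
  σ : SL2 F →* G
  act : ∀ (A : SL2 F) (v : Fin 2 → F), σ A • v = A.1 *ᵥ v
  faithful : ∀ g : G, (∀ v : Fin 2 → F, g • v = v) → g = 1

variable {G : Type*} [Group G] {F : Type*} [Field F] [DistribMulAction G (Fin 2 → F)]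

/-- `g` is semilinear with field map `τ`. -/
def Semi (g : G) (τ : F →+* F) : Prop :=
  ∀ (a : F) (v : Fin 2 → F), g • (a • v) = τ a • (g • v)

theorem semi_one : Semi (1 : G) (1 : F →+* F) := fun a v => by simp

theorem Semi.mul {g h : G} {τ τ' : F →+* F} (hg : Semi g τ) (hh : Semi h τ') : Semi (g * h) (τ * τ') :=
  fun a v => by rw [mul_smul, hh, hg, mul_smul]; rfl

theorem Semi.pow {g : G} {τ : F →+* F} (hg : Semi g τ) : ∀ n : ℕ, Semi (g ^ n) (τ ^ n)
  | 0 => by simpa using semi_one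
  | n + 1 => by rw [pow_succ, pow_succ]; exact (hg.pow n).mul hg

theorem smul_ne_zero_of {g : G} {v : Fin 2 → F} (hv : v ≠ 0) : g • v ≠ 0 := fun h =>
  hv (by rw [← inv_smul_smul g v, h, smul_zero])

theorem Semi.unique {g : G} {τ τ' : F →+* F} (h : Semi g τ) (h' : Semi g τ') : τ = τ' := by
  ext a
  have hne : g • (![1, 0] : Fin 2 → F) ≠ 0 := smul_ne_zero_of fun h0 => one_ne_zero (congrFun h0 0)
  have h1 : τ a • (g • (![1, 0] : Fin 2 → F)) = τ' a • (g • ![1, 0]) := (h a _).symm.trans (h' a _)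
  exact smul_left_injective F hne h1

theorem eq_smul_axis {v : Fin 2 → F} (h : v 1 = 0) : v = v 0 • (![1, 0] : Fin 2 → F) := by
  ext i; fin_cases i <;> simp [h]

theorem decomp (v : Fin 2 → F) : v = v 0 • (![1, 0] : Fin 2 → F) + v 1 • ![0, 1] := by
  ext i; fin_cases i <;> simp

/-- `GL₁`-part: an additive map commuting with `SL₂(F)` is a scalar. -/
theorem scalar_of_commute (φ : (Fin 2 → F) → (Fin 2 → F)) (hadd : ∀ u v, φ (u + v) = φ u + φ v)
    (hcom : ∀ (A : SL2 F) (v : Fin 2 → F), φ (A.1 *ᵥ v) = A.1 *ᵥ φ v) :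
    ∃ d : F, ∀ v, φ v = d • v := by
  have hu : ∀ (x : F) (v : Fin 2 → F),
      φ ![v 0 + x * v 1, v 1] = ![φ v 0 + x * φ v 1, φ v 1] := by
    intro x v
    have h := hcom (uSL (Multiplicative.ofAdd x)) v
    rw [coe_uSL] at h
    simpa [Matrix.mulVec, dotProduct, Fin.sum_univ_two, vecHead, vecTail] using h
  let W : SL2 F := ⟨!![0, -1; 1, 0], by simp [Matrix.det_fin_two]⟩
  have hW : ∀ v : Fin 2 → F, φ ![-(v 1), v 0] = ![-(φ v 1), φ v 0] := by
    intro v
    have h := hcom W v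
    simpa [W, Matrix.mulVec, dotProduct, Fin.sum_univ_two, vecHead, vecTail] using h
  set d := φ ![0, 1] 1
  have h1 : ∀ x : F, φ ![x, 0] = ![x * d, 0] := by
    intro x
    have h := hu x ![0, 1]
    have h2 : (![(![0, 1] : Fin 2 → F) 0 + x * (![0, 1] : Fin 2 → F) 1, (![0, 1] : Fin 2 → F) 1] : Fin 2 → F)
        = ![x, 0] + ![0, 1] := by ext i; fin_cases i <;> simp
    rw [h2, hadd] at h
    ext i
    have h3 := congrFun h i
    fin_cases i <;> simp [d] at h3 ⊢ <;> linear_combination h3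
  refine ⟨d, fun v => ?_⟩
  have h2 := hW ![v 1, 0]
  simp only [Matrix.cons_val_zero, Matrix.cons_val_one, neg_zero, h1] at h2
  have h3 : v = ![v 0, 0] + ![0, v 1] := by ext i; fin_cases i <;> simp
  conv_lhs => rw [h3, hadd, h1, h2]
  ext i; fin_cases i <;> simp [mul_comm]

namespace Conf

variable (c : Conf G F)

include c in
theorem eq_of_smul_eq {g h : G} (e : ∀ v : Fin 2 → F, g • v = h • v) : g = h :=
  inv_mul_eq_one.1 (c.faithful _ fun v => by rw [mul_smul, ← e, inv_smul_smul])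

theorem σ_injective : Function.Injective c.σ := by
  intro A B h
  apply Matrix.SpecialLinearGroup.ext
  intro i j
  have h1 := congrArg (fun g : G => g • (Pi.single j 1 : Fin 2 → F)) h
  simp only [c.act] at h1
  simpa using congrFun h1 i

/-- The copy of `SL₂(F)`. -/
def L : Subgroup G := c.σ.range

/-- Root elements. -/
def u (x : F) : G := c.σ (uSL (Multiplicative.ofAdd x))

theorem u_mem_L (x : F) : c.u x ∈ c.L := ⟨_, rfl⟩

theorem u_smul (x : F) (v : Fin 2 → F) : c.u x • v = ![v 0 + x * v 1, v 1] := by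
  rw [u, c.act, coe_uSL]
  ext i; fin_cases i <;> simp [Matrix.mulVec, dotProduct, Fin.sum_univ_two]

theorem u_add (x y : F) : c.u x * c.u y = c.u (x + y) := by
  rw [u, u, u, ← map_mul, ← map_mul, ← ofAdd_add]

theorem u_zero : c.u 0 = 1 := by rw [u, ofAdd_zero, map_one, map_one]

theorem u_inv (x : F) : (c.u x)⁻¹ = c.u (-x) :=
  inv_eq_of_mul_eq_one_right (by rw [u_add, add_neg_cancel, u_zero])

theorem u_pow (x : F) : ∀ n : ℕ, c.u x ^ n = c.u (n * x)
  | 0 => by simp [u_zero]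
  | n + 1 => by rw [pow_succ, u_pow x n, u_add]; congr 1; push_cast; ring

theorem u_injective : Function.Injective c.u := fun x y h => by
  simpa using uSL_injective (c.σ_injective h)

theorem u_smul_of_axis (x : F) {v : Fin 2 → F} (h : v 1 = 0) : c.u x • v = v := by
  rw [u_smul, h]; ext i; fin_cases i <;> simp [h]

theorem u_smul_eq_self {x : F} {v : Fin 2 → F} (hx : x ≠ 0) : c.u x • v = v ↔ v 1 = 0 := by
  refine ⟨fun h => ?_, c.u_smul_of_axis x⟩
  have h0 := congrFun h 0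
  rw [u_smul] at h0
  simpa [hx] using h0

theorem semi_u (x : F) : Semi (c.u x) (1 : F →+* F) := fun a v => by
  rw [u_smul, u_smul]; ext i; fin_cases i <;> simp <;> ring

/-- The stabiliser of the first axis. -/
def N₀ (_c : Conf G F) : Subgroup G where
  carrier := {g | ∀ v : Fin 2 → F, v 1 = 0 ↔ (g • v) 1 = 0}
  one_mem' v := by simp
  mul_mem' {g h} hg hh v := by rw [mul_smul]; exact (hh v).trans (hg _)
  inv_mem' {g} hg v := by
    conv_lhs => rw [← smul_inv_smul g v]
    exact (hg _).symm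

theorem mem_N₀ {g : G} : g ∈ c.N₀ ↔ ∀ v : Fin 2 → F, v 1 = 0 ↔ (g • v) 1 = 0 := Iff.rfl

theorem mem_N₀_of_maps [Finite F] {g : G} (h : ∀ v : Fin 2 → F, v 1 = 0 → (g • v) 1 = 0) : g ∈ c.N₀ := by
  intro v
  refine ⟨h v, fun hv => ?_⟩
  let f : {v : Fin 2 → F // v 1 = 0} → {v : Fin 2 → F // v 1 = 0} := fun w => ⟨g • w.1, h _ w.2⟩
  have hf : Function.Injective f := fun a b hab =>
    Subtype.ext (MulAction.injective g (congrArg Subtype.val hab))
  obtain ⟨w, hw⟩ := (Finite.injective_iff_surjective.1 hf) ⟨g • v, hv⟩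
  rw [← MulAction.injective g (congrArg Subtype.val hw)]
  exact w.2

theorem u_mem_N₀ (x : F) : c.u x ∈ c.N₀ := fun v => by simp [u_smul]

/-- An element normalising `L` is semilinear. -/
theorem semi_of_normalizes [Finite F] {g : G} (hg : g ∈ Subgroup.normalizer (c.L : Set G)) :
    ∃ τ : F →+* F, Semi g τ := by
  have hcom : ∀ (a : F) (A : SL2 F) (v : Fin 2 → F),
      g • (a • (g⁻¹ • (A.1 *ᵥ v))) = A.1 *ᵥ (g • (a • (g⁻¹ • v))) := by
    intro a A v
    obtain ⟨B, hB⟩ : g⁻¹ * c.σ A * g ∈ c.L :=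
      (Subgroup.mem_normalizer_iff''.1 hg _).1 ⟨A, rfl⟩
    have h1 : g⁻¹ • (A.1 *ᵥ v) = B.1 *ᵥ (g⁻¹ • v) := by
      rw [← c.act, ← c.act, hB, mul_smul, mul_smul, smul_inv_smul]
    rw [h1, ← Matrix.mulVec_smul, ← c.act, ← c.act, hB, mul_smul, mul_smul, smul_inv_smul]
  have hd : ∀ a : F, ∃ d : F, ∀ v : Fin 2 → F, g • (a • (g⁻¹ • v)) = d • v := fun a =>
    scalar_of_commute _ (fun u v => by rw [smul_add, smul_add, smul_add]) (hcom a)
  choose d hd using hd
  have hd' : ∀ a v, g • (a • v) = d a • (g • v) := fun a v => by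
    rw [← hd a (g • v), inv_smul_smul]
  have hne : g • (![1, 0] : Fin 2 → F) ≠ 0 := smul_ne_zero_of fun h0 => one_ne_zero (congrFun h0 0)
  have inj : ∀ {a b : F}, a • (g • (![1, 0] : Fin 2 → F)) = b • (g • ![1, 0]) → a = b :=
    fun h => smul_left_injective F hne h
  refine ⟨{ toFun := d, map_one' := inj ?_, map_mul' := fun a b => inj ?_, map_zero' := inj ?_,
            map_add' := fun a b => inj ?_ }, hd'⟩
  · rw [← hd', one_smul, one_smul]
  · rw [← hd', mul_smul, hd', hd', mul_smul]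
  · rw [← hd', zero_smul, zero_smul, smul_zero]
  · rw [← hd', add_smul, smul_add, hd', hd', add_smul]

/-- A linear `p`-element fixing the first axis is a root element. -/
theorem eq_u_of_linear {p : ℕ} [Fact p.Prime] [CharP F p] {g : G} (hg : Semi g (1 : F →+* F))
    (hN : g ∈ c.N₀) {k : ℕ} (hk : g ^ p ^ k = 1) : ∃ x : F, g = c.u x := by
  set a := (g • (![1, 0] : Fin 2 → F)) 0
  set b := (g • (![0, 1] : Fin 2 → F)) 0
  set d := (g • (![0, 1] : Fin 2 → F)) 1
  have h10 : g • (![1, 0] : Fin 2 → F) = ![a, 0] := by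
    ext i; fin_cases i
    · rfl
    · exact (hN _).1 rfl
  have h01 : g • (![0, 1] : Fin 2 → F) = ![b, d] := by ext i; fin_cases i <;> rfl
  have hgv : ∀ v : Fin 2 → F, g • v = ![a * v 0 + b * v 1, d * v 1] := by
    intro v
    conv_lhs => rw [decomp v]
    rw [smul_add, hg, hg, h10, h01]
    ext i; fin_cases i <;> simp [mul_comm]
  have hpow : ∀ (n : ℕ) (v : Fin 2 → F), ((g ^ n) • v) 1 = d ^ n * v 1 ∧
      (v 1 = 0 → ((g ^ n) • v) 0 = a ^ n * v 0) := by
    intro n
    induction n with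
    | zero => intro v; simp
    | succ n ih =>
      intro v
      rw [pow_succ', mul_smul, hgv]
      refine ⟨by simp [(ih v).1, pow_succ']; ring, fun hv => ?_⟩
      simp [(ih v).2 hv, (ih v).1, hv, pow_succ']
      ring
  have ha : a = 1 := by
    have h := (hpow (p ^ k) ![1, 0]).2 rfl
    rw [hk, one_smul] at h
    have h' : (a - 1) ^ p ^ k = 0 := by rw [sub_pow_char_pow, one_pow]; simp at h; rw [← h, sub_self]
    exact sub_eq_zero.1 (eq_zero_of_pow_eq_zero h')
  have hd : d = 1 := by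
    have h := (hpow (p ^ k) ![0, 1]).1
    rw [hk, one_smul] at h
    have h' : (d - 1) ^ p ^ k = 0 := by rw [sub_pow_char_pow, one_pow]; simp at h; rw [← h, sub_self]
    exact sub_eq_zero.1 (eq_zero_of_pow_eq_zero h')
  refine ⟨b, c.eq_of_smul_eq fun v => ?_⟩
  rw [hgv, c.u_smul, ha, hd, one_mul, one_mul]

/-- The elements fixing the first axis pointwise and the quotient by it. -/
def K (_c : Conf G F) : Subgroup G where
  carrier := {g | (∀ v : Fin 2 → F, v 1 = 0 → g • v = v) ∧ ∀ v : Fin 2 → F, (g • v) 1 = v 1}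
  one_mem' := ⟨fun v _ => one_smul _ v, fun v => by rw [one_smul]⟩
  mul_mem' {g h} hg hh := ⟨fun v hv => by rw [mul_smul, hh.1 v hv, hg.1 v hv], fun v => by
    rw [mul_smul, hg.2, hh.2]⟩
  inv_mem' {g} hg := ⟨fun v hv => by conv_lhs => rw [← hg.1 v hv, inv_smul_smul], fun v => by
    conv_rhs => rw [← smul_inv_smul g v]
    rw [hg.2]⟩

theorem mem_K {g : G} : g ∈ c.K ↔
    (∀ v : Fin 2 → F, v 1 = 0 → g • v = v) ∧ ∀ v : Fin 2 → F, (g • v) 1 = v 1 := Iff.rfl

theorem u_mem_K (x : F) : c.u x ∈ c.K :=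
  c.mem_K.2 ⟨fun _ hv => c.u_smul_of_axis x hv, fun v => by simp [u_smul]⟩

theorem K_le_N₀ : c.K ≤ c.N₀ := fun g hg v => by rw [(c.mem_K.1 hg).2]

theorem conj_mem_K {g h : G} (hh : h ∈ c.N₀) (hg : g ∈ c.K) : h * g * h⁻¹ ∈ c.K := by
  refine c.mem_K.2 ⟨fun v hv => ?_, fun v => ?_⟩
  · rw [mul_smul, mul_smul, (c.mem_K.1 hg).1 _ ((c.mem_N₀.1 (inv_mem hh) v).1 hv), smul_inv_smul]
  · have h1 : (g • (h⁻¹ • v) - h⁻¹ • v) 1 = 0 := by rw [Pi.sub_apply, (c.mem_K.1 hg).2, sub_self]
    have h2 := (c.mem_N₀.1 hh _).1 h1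
    rw [smul_sub, smul_inv_smul, Pi.sub_apply, sub_eq_zero, ← mul_smul, ← mul_smul] at h2
    exact h2

theorem pow_p_of_mem_K {p : ℕ} [Fact p.Prime] [CharP F p] {g : G} (hg : g ∈ c.K) : g ^ p = 1 := by
  refine c.faithful _ fun v => ?_
  have h1 : g • (g • v - v) = g • v - v :=
    (c.mem_K.1 hg).1 _ (by rw [Pi.sub_apply, (c.mem_K.1 hg).2, sub_self])
  have h2 : ∀ n : ℕ, (g ^ n) • v = v + (n : F) • (g • v - v) := by
    intro n
    induction n with
    | zero => simp
    | succ n ih =>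
      rw [pow_succ', mul_smul, ih, smul_add, Nat.cast_succ, add_smul, one_smul]
      have h3 : g • ((n : F) • (g • v - v)) = (n : F) • (g • v - v) := by
        rw [Nat.cast_smul_eq_nsmul, smul_comm, h1]
      rw [h3]; abel
  rw [h2, CharP.cast_eq_zero, zero_smul, add_zero]

end Conf

end Cfsg.Agent.Lib.NatSL2Sylow65
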