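import Cfsg.Agent.Lib.NatSL2Sylow65.Main
import Cfsg.Agent.Lib.GL4Two
import Cfsg.Agent.Lib.IndexNStab
import Cfsg.Agent.Lib.Linear.Order
import Cfsg.Agent.Lib.Linear.Simple

/-!
# The case `|F| = 4`: the group is `A₇`
-/

set_option autoImplicit false
set_option linter.unusedSectionVars false
set_option linter.style.haveILetI false

namespace Cfsg.Agent.Lib.NatSL2Sylow65

open Matrix Cfsg.Agent.Lib.Linear

/-- A subgroup of index `6` and order `840` does not exist in `S₇`. -/
theorem card_ne_840 (H : Subgroup (Equiv.Perm (Fin 7))) : Nat.card H ≠ 840 := by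
  intro hH
  haveI : IsSimpleGroup (alternatingGroup (Fin 7)) := alternatingGroup.isSimpleGroup (by simp)
  have hcard : Nat.card (Equiv.Perm (Fin 7)) = 5040 := by
    rw [Nat.card_perm, Nat.card_fin]; rfl
  have hidx : H.index = 6 := by
    have h := H.card_mul_index
    rw [hH, hcard] at h
    omega
  set C := H.normalCore
  have hC : C = (MulAction.toPermHom (Equiv.Perm (Fin 7)) (Equiv.Perm (Fin 7) ⧸ H)).ker :=
    Subgroup.normalCore_eq_ker H
  have hCidx : C.index ∣ 720 := by
    rw [hC, Subgroup.index_ker]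
    refine (Subgroup.card_subgroup_dvd_card _).trans ?_
    rw [Nat.card_perm, ← Subgroup.index_eq_card, hidx]
    decide
  have hle : Nat.card C ≤ 840 := hH ▸ Subgroup.card_le_of_le H.normalCore_le
  have h7 : 7 ≤ Nat.card C := by
    have h := C.card_mul_index
    rw [hcard] at h
    have := Nat.le_of_dvd (by norm_num) hCidx
    have h' : Nat.card C * C.index ≤ Nat.card C * 720 := Nat.mul_le_mul_left _ this
    omega
  have hA : Nat.card (alternatingGroup (Fin 7)) = 2520 := by
    rw [nat_card_alternatingGroup, Nat.card_fin]; rfl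
  haveI : (C.subgroupOf (alternatingGroup (Fin 7))).Normal := Subgroup.Normal.subgroupOf inferInstance _
  rcases Subgroup.Normal.eq_bot_or_eq_top (inferInstance : (C.subgroupOf (alternatingGroup (Fin 7))).Normal)
    with h | h
  · have hinj : Function.Injective (fun c : C => Equiv.Perm.sign (c : Equiv.Perm (Fin 7))) := by
      intro a b hab
      have hmem : (a : Equiv.Perm (Fin 7)) * (b : Equiv.Perm (Fin 7))⁻¹ ∈ alternatingGroup (Fin 7) := by
        rw [Equiv.Perm.mem_alternatingGroup, map_mul, map_inv, mul_inv_eq_one]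
        exact hab
      have hbot : (⟨_, hmem⟩ : alternatingGroup (Fin 7)) = 1 := by
        rw [← Subgroup.mem_bot, ← h, Subgroup.mem_subgroupOf]
        exact mul_mem a.2 (inv_mem b.2)
      exact Subtype.ext (mul_inv_eq_one.1 (congrArg Subtype.val hbot))
    have := Nat.card_le_card_of_injective _ hinj
    rw [Nat.card_eq_fintype_card (α := ℤˣ), Fintype.card_units_int] at this
    omega
  · have := Subgroup.card_le_of_le (Subgroup.subgroupOf_eq_top.1 h)
    omega

variable {G : Type*} [Group G] [Finite G] {F : Type*} [Field F] [Fintype F] [DistribMulAction G (Fin 2 → F)]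
  [CharP F 2]

/-- `G` embeds in `A₈`. -/
theorem exists_embedding (c : Conf G F) (h4 : Fintype.card F = 4) :
    ∃ φ : G →* alternatingGroup (Fin 8), Function.Injective φ := by
  classical
  letI : Module (ZMod 2) (Fin 2 → F) := AddCommGroup.zmodModule fun v => by
    rw [two_nsmul]; ext i; exact CharTwo.add_self_eq_zero (v i)
  have hrank : Module.finrank (ZMod 2) (Fin 2 → F) = 4 := by
    have h := Module.card_eq_pow_finrank (K := ZMod 2) (V := Fin 2 → F)
    rw [Fintype.card_fun, Fintype.card_fin, h4, ZMod.card] at h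
    exact (Nat.pow_right_injective (le_refl 2) (by norm_num at h ⊢; linarith)).symm
  let b := Module.finBasisOfFinrankEq (ZMod 2) (Fin 2 → F) hrank
  let f : G →* Matrix (Fin 4) (Fin 4) (ZMod 2) :=
    { toFun := fun g =>
        LinearMap.toMatrix b b ((DistribSMul.toAddMonoidHom (Fin 2 → F) g).toZModLinearMap 2)
      map_one' := by
        rw [← LinearMap.toMatrix_id b]; congr 1; ext v : 1; exact one_smul G v
      map_mul' := fun g h => by
        rw [← LinearMap.toMatrix_comp b b b]; congr 1; ext v : 1; exact mul_smul g h v }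
  refine ⟨GL4Two.equiv.toMonoidHom.comp f.toHomUnits, GL4Two.equiv.injective.comp fun g h e => ?_⟩
  have e' : f g = f h := congrArg Units.val e
  refine c.eq_of_smul_eq fun v => ?_
  exact LinearMap.congr_fun ((LinearMap.toMatrix b b).injective e') v

theorem eq_zero_or_eq_one_or {x : F} (h4 : Fintype.card F = 4) (hx0 : x ≠ 0) (hx1 : x ≠ 1) (y : F) :
    y = 0 ∨ y = 1 ∨ y = x ∨ y = x + 1 := by
  classical
  have hx2 : x + 1 ≠ 0 := fun e => hx1 (CharTwo.add_eq_zero.1 e)
  have hx3 : x + 1 ≠ 1 := fun e => hx0 (add_eq_right.1 e)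
  have hx4 : x + 1 ≠ x := fun e => one_ne_zero (add_eq_left.1 e)
  have huniv : ({0, 1, x, x + 1} : Finset F) = Finset.univ := by
    refine Finset.eq_univ_of_card _ ?_
    rw [h4, Finset.card_insert_of_notMem (by simp [hx0.symm, hx2.symm]),
      Finset.card_insert_of_notMem (by simp [hx1.symm, hx3.symm]),
      Finset.card_insert_of_notMem (by simp [hx4.symm]), Finset.card_singleton]
  have h := Finset.mem_univ y
  rw [← huniv] at h
  simpa using h

namespace SConf

variable (s : SConf G F 2)

theorem card_L (h4 : Fintype.card F = 4) : Nat.card s.L = 60 := by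
  rw [Conf.L, ← Nat.card_congr (MonoidHom.ofInjective s.σ_injective).toEquiv, card_SL_two, h4]

theorem L_simple (h4 : Fintype.card F = 4) (M : Subgroup G) (hM : M ≤ s.L) (hn : s.L ≤ Subgroup.normalizer (M : Set G)) :
    M = ⊥ ∨ M = s.L := by
  have hsimp : IsSimpleGroup (SL2 F) := by
    haveI := isSimpleGroup_PSL (F := F) (n := 2) (le_refl 2) (fun _ => by rw [Nat.card_eq_fintype_card, h4])
    have hbot : Subgroup.center (SL2 F) = ⊥ := by
      apply Subgroup.eq_bot_of_card_eq
      rw [card_center_SL, Fintype.card_fin, Nat.card_eq_fintype_card, h4]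
      rfl
    exact ((QuotientGroup.quotientMulEquivOfEq hbot).trans QuotientGroup.quotientBot).isSimpleGroup_congr.1
      (inferInstanceAs (IsSimpleGroup (Matrix.ProjectiveSpecialLinearGroup (Fin 2) F)))
  have hnorm : (M.comap s.σ).Normal := ⟨fun A hA B => by
    rw [Subgroup.mem_comap, map_mul, map_mul, map_inv]
    exact (Subgroup.mem_normalizer_iff.1 (hn ⟨B, rfl⟩) _).1 hA⟩
  have hmap : (M.comap s.σ).map s.σ = M := by
    rw [Subgroup.map_comap_eq]
    exact inf_eq_right.2 hM
  rcases hnorm.eq_bot_or_eq_top with h | h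
  · left; rw [← hmap, h, Subgroup.map_bot]
  · right; rw [← hmap, h, ← MonoidHom.range_eq_map]; rfl

theorem card_T (hb : s.Bad) : Nat.card (s.T : Subgroup G) = 8 := by
  classical
  obtain ⟨t, ht, τ, hτ, hne⟩ := hb.semi
  have h4 := hb.four
  choose θ hθ using fun x : (s.T : Subgroup G) => s.semi_T x.2
  let Θ : (s.T : Subgroup G) →* (F →+* F) :=
    { toFun := θ
      map_one' := (hθ 1).unique semi_one
      map_mul' := fun a b => (hθ (a * b)).unique ((hθ a).mul (hθ b)) }
  let uT : Multiplicative F →* (s.T : Subgroup G) :=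
    { toFun := fun a => ⟨s.u a.toAdd, s.u_mem _⟩
      map_one' := Subtype.ext s.u_zero
      map_mul' := fun a b => Subtype.ext (s.u_add _ _).symm }
  have hker : ∀ a : (s.T : Subgroup G), θ a = 1 ↔ a ∈ uT.range := by
    intro a
    constructor
    · intro h
      obtain ⟨k, hk⟩ := s.T.isPGroup' a
      obtain ⟨x, hx⟩ := s.eq_u_of_linear (p := 2) (h ▸ hθ a) (s.T_le_N₀ a.2) (k := k)
        (by simpa using congrArg Subtype.val hk)
      exact ⟨Multiplicative.ofAdd x, Subtype.ext hx.symm⟩
    · rintro ⟨x, rfl⟩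
      exact (hθ _).unique (s.semi_u x.toAdd)
  have hU : Nat.card uT.range = 4 := by
    rw [← Nat.card_congr (MonoidHom.ofInjective (f := uT) (fun a b e =>
      Multiplicative.toAdd.injective (s.u_injective (congrArg Subtype.val e)))).toEquiv,
      Nat.card_congr Multiplicative.toAdd, Nat.card_eq_fintype_card, h4]
  obtain ⟨x, hxne⟩ : ∃ x : F, τ x ≠ x := by
    by_contra hc
    push Not at hc
    exact hne (RingHom.ext hc)
  have hx0 : x ≠ 0 := fun e => hxne (by rw [e, map_zero])
  have hx1 : x ≠ 1 := fun e => hxne (by rw [e, map_one])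
  have himg : ∀ r : F →+* F, r = 1 ∨ r = τ := by
    have hdet : ∀ r r' : F →+* F, r x = r' x → r = r' := fun r r' e => by
      ext y
      rcases eq_zero_or_eq_one_or h4 hx0 hx1 y with rfl | rfl | rfl | rfl <;> simp [e]
    have hval : ∀ r : F →+* F, r x = x ∨ r x = x + 1 := fun r => by
      rcases eq_zero_or_eq_one_or h4 hx0 hx1 (r x) with h | h | h | h
      · exact absurd (r.injective (h.trans (map_zero r).symm)) hx0
      · exact absurd (r.injective (h.trans (map_one r).symm)) hx1
      · exact Or.inl h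
      · exact Or.inr h
    intro r
    rcases hval r with h | h
    · exact Or.inl (hdet r 1 h)
    · exact Or.inr (hdet r τ (h.trans ((hval τ).resolve_left hxne).symm))
  have hmul : ∀ a b : (s.T : Subgroup G), a ∉ uT.range → b ∉ uT.range → a * b ∈ uT.range := by
    intro a b ha hb
    rw [← hker] at ha hb ⊢
    rw [(hθ (a * b)).unique ((hθ a).mul (hθ b)), (himg (θ a)).resolve_left ha,
      (himg (θ b)).resolve_left hb]
    rcases himg (τ * τ) with h | h
    · exact h
    · exfalso
      apply hne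
      ext y
      exact τ.injective (congrFun (congrArg DFunLike.coe h) y)
  have htU : (⟨t, ht⟩ : (s.T : Subgroup G)) ∉ uT.range := fun h =>
    hne (hτ.unique ((hθ ⟨t, ht⟩)) |>.trans ((hker _).2 h))
  have hidx : uT.range.index = 2 := by
    rw [Subgroup.index_eq_two_iff]
    refine ⟨⟨t, ht⟩, fun b => ?_⟩
    by_cases hb : b ∈ uT.range
    · exact Or.inr ⟨hb, fun h => htU (by simpa using (Subgroup.mul_mem_cancel_left _ hb).1 h)⟩
    · exact Or.inl ⟨hmul b _ hb htU, hb⟩
  rw [← uT.range.card_mul_index, hU, hidx]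

/-- The conclusion in the exceptional case. -/
theorem alternating_seven (hb : s.Bad) (hnn : ¬ s.L.Normal) :
    Nonempty (G ≃* alternatingGroup (Fin 7)) := by
  classical
  have h4 := hb.four
  set N := Subgroup.normalizer (s.L : Set G) with hN
  have hLN : s.L ≤ N := Subgroup.le_normalizer
  have hL := s.card_L h4
  have hT := s.card_T hb
  obtain ⟨φ, hφ⟩ := exists_embedding s.toConf h4
  have hA8 : Nat.card (alternatingGroup (Fin 8)) = 20160 := by
    rw [nat_card_alternatingGroup, Nat.card_fin]; rfl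
  -- orders
  have hGd : Nat.card G ∣ 20160 := hA8 ▸ Subgroup.card_dvd_of_injective φ hφ
  have h120 : 120 ∣ Nat.card N := by
    have h1 : 60 ∣ Nat.card N := hL ▸ Subgroup.card_dvd_of_le hLN
    have h2 : 8 ∣ Nat.card N := hT ▸ Subgroup.card_dvd_of_le s.T_le
    exact Nat.lcm_dvd h1 h2
  have h16 : ¬ 16 ∣ Nat.card G := by
    intro h
    have h1 := s.T.card_eq_multiplicity
    rw [hT] at h1
    have h2 := (Nat.Prime.pow_dvd_iff_le_factorization Nat.prime_two Nat.card_pos.ne').1
      (show 2 ^ 4 ∣ Nat.card G from h)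
    have h3 : 2 ^ 4 ≤ 2 ^ (Nat.card G).factorization 2 := Nat.pow_le_pow_right (by norm_num) h2
    omega
  have hi := N.card_mul_index
  have hi1 : N.index ≠ 1 := fun h => hnn (Subgroup.normalizer_eq_top_iff.1 (Subgroup.index_eq_one.1 h))
  -- the core is trivial
  have hcore : N.normalCore = ⊥ := by
    set C := N.normalCore
    have hCL : C ⊓ s.L = ⊥ ∨ C ⊓ s.L = s.L := s.L_simple h4 _ inf_le_right fun l hl => by
      refine Subgroup.mem_normalizer_iff.2 fun x => ?_
      have hn := N.normalCore_normal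
      refine ⟨fun hx => ⟨hn.conj_mem _ hx.1 l, s.L.mul_mem (s.L.mul_mem hl hx.2) (s.L.inv_mem hl)⟩, fun hx => ?_⟩
      refine ⟨?_, ?_⟩
      · simpa [mul_assoc] using hn.conj_mem _ hx.1 l⁻¹
      · simpa [mul_assoc] using mul_mem (mul_mem (inv_mem hl) hx.2) hl
    rcases hCL with h | h
    · by_contra hne
      obtain ⟨k, hk, hk1⟩ := (Subgroup.ne_bot_iff_exists_ne_one).1 hne |> fun ⟨⟨k, hk⟩, h1⟩ =>
        (⟨k, hk, fun e => h1 (Subtype.ext e)⟩ : ∃ k, k ∈ C ∧ k ≠ 1)
      have hcomm : ∀ z ∈ C, ∀ l ∈ s.L, z * l = l * z := by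
        intro z hz l hl
        have h1 : z * l * z⁻¹ * l⁻¹ ∈ C ⊓ s.L :=
          ⟨by rw [show z * l * z⁻¹ * l⁻¹ = z * (l * z⁻¹ * l⁻¹) by group]
              exact mul_mem hz (N.normalCore_normal.conj_mem _ (inv_mem hz) l),
            s.L.mul_mem ((Subgroup.mem_normalizer_iff.1 (N.normalCore_le hz) _).1 hl) (s.L.inv_mem hl)⟩
        rw [h, Subgroup.mem_bot, mul_inv_eq_one, mul_inv_eq_iff_eq_mul] at h1
        exact h1
      have hscal : ∀ z ∈ C, ∃ d : F, ∀ v : Fin 2 → F, z • v = d • v := fun z hz =>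
        scalar_of_commute (fun v => z • v) (fun u v => smul_add _ _ _) fun A v => by
          rw [← s.act, ← s.act, ← mul_smul, ← mul_smul, hcomm z hz _ ⟨A, rfl⟩]
      obtain ⟨d, hd⟩ := hscal k hk
      have hd1 : d ≠ 1 := fun e => hk1 (s.faithful k fun v => by rw [hd, e, one_smul])
      have hd0 : d ≠ 0 := fun e => smul_ne_zero_of (g := k) (v := (![1, 0] : Fin 2 → F))
        (fun h0 => one_ne_zero (congrFun h0 0)) (by rw [hd, e, zero_smul])
      obtain ⟨g, hg, e, he, he1, hge⟩ := hb.line
      obtain ⟨d', hd'⟩ := hscal _ (N.normalCore_normal.conj_mem k hk g)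
      have hsc : ∀ v : Fin 2 → F, g • (d • v) = d' • (g • v) := fun v => by
        rw [← hd v, ← hd' (g • v), mul_smul, mul_smul, inv_smul_smul]
      apply hg
      refine s.mem_N₀_of_maps fun v hv => ?_
      have hscal2 : ∀ a : F, ∃ a' : F, g • (a • e) = a' • (g • e) := by
        intro a
        rcases eq_zero_or_eq_one_or h4 hd0 hd1 a with rfl | rfl | rfl | rfl
        · exact ⟨0, by simp⟩
        · exact ⟨1, by simp⟩
        · exact ⟨d', hsc e⟩
        · exact ⟨d' + 1, by rw [add_smul, smul_add, hsc, one_smul, add_smul, one_smul]⟩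
      have he0 : e 0 ≠ 0 := fun h0 => he (by ext i; fin_cases i <;> assumption)
      have hve : v = (v 0 / e 0) • e := by
        ext i; fin_cases i
        · simp [he0]
        · simp [hv, he1]
      obtain ⟨a', ha'⟩ := hscal2 (v 0 / e 0)
      rw [hve, ha']
      simp [hge]
    · exfalso
      have hLC : s.L ≤ C := h ▸ inf_le_left
      refine hnn ⟨fun l hl g => ?_⟩
      set M : Subgroup G := s.L.map (MulAut.conj g).toMonoidHom
      have hMC : M ≤ C := by
        rintro _ ⟨x, hx, rfl⟩
        exact N.normalCore_normal.conj_mem _ (hLC hx) g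
      have hMcard : Nat.card M = 60 := by
        rw [Subgroup.card_map_of_injective (MulAut.conj g).injective, hL]
      have hinf : M ⊓ s.L = ⊥ ∨ M ⊓ s.L = s.L := s.L_simple h4 _ inf_le_right fun x hx => by
        have hxM : x ∈ Subgroup.normalizer (M : Set G) := by
          have h1 : g⁻¹ * x * g ∈ N := by
            have := N.normalCore_normal.conj_mem x (hLC hx) g⁻¹
            exact N.normalCore_le (by simpa [mul_assoc] using this)
          refine Subgroup.mem_normalizer_iff.2 fun y => ?_
          simp only [M, Subgroup.mem_map_equiv, MulAut.conj_symm_apply]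
          rw [(Subgroup.mem_normalizer_iff.1 h1 (g⁻¹ * y * g))]
          rw [show g⁻¹ * x * g * (g⁻¹ * y * g) * (g⁻¹ * x * g)⁻¹ = g⁻¹ * (x * y * x⁻¹) * g by group]
        exact Subgroup.mem_normalizer_iff.2 fun y =>
          ⟨fun hy => ⟨(Subgroup.mem_normalizer_iff.1 hxM y).1 hy.1, s.L.mul_mem (s.L.mul_mem hx hy.2) (s.L.inv_mem hx)⟩,
           fun hy => ⟨(Subgroup.mem_normalizer_iff.1 hxM y).2 hy.1,
            by simpa [mul_assoc] using mul_mem (mul_mem (inv_mem hx) hy.2) hx⟩⟩
      rcases hinf with h' | h'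
      · exfalso
        have hinj : Function.Injective (fun q : M × s.L => (q.1 : G) * (q.2 : G)) := by
          rintro ⟨a, b⟩ ⟨a', b'⟩ heq
          have h5 : (a' : G)⁻¹ * a = (b' : G) * (b : G)⁻¹ := by
            rw [eq_mul_inv_iff_mul_eq, mul_assoc, inv_mul_eq_iff_eq_mul]; exact heq
          have h6 : (a' : G)⁻¹ * a ∈ M ⊓ s.L :=
            ⟨M.mul_mem (M.inv_mem a'.2) a.2, h5 ▸ s.L.mul_mem b'.2 (s.L.inv_mem b.2)⟩
          rw [h', Subgroup.mem_bot] at h6
          rw [h6, eq_comm, mul_inv_eq_one] at h5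
          exact Prod.ext (Subtype.ext (inv_mul_eq_one.1 h6).symm) (Subtype.ext h5.symm)
        have hG : Nat.card (M × s.L) ≤ Nat.card G := Nat.card_le_card_of_injective _ hinj
        rw [Nat.card_prod, hMcard, hL] at hG
        have hle : Nat.card G ≤ 2520 := by
          have hmem : Nat.card G ∈ Nat.divisors 20160 := Nat.mem_divisors.2 ⟨hGd, by norm_num⟩
          have hall : ∀ n ∈ Nat.divisors 20160, ¬ 16 ∣ n → n ≤ 2520 := by decide +kernel
          exact hall _ hmem h16
        omega
      · have hLM : s.L ≤ M := inf_eq_right.1 h'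
        have heq : s.L = M := Subgroup.eq_of_le_of_card_ge hLM (by rw [hMcard, hL])
        rw [heq]
        exact ⟨l, hl, rfl⟩
  have hfac : Nat.card G ∣ (N.index).factorial := by
    have hker : (MulAction.toPermHom G (G ⧸ N)).ker = ⊥ := by rw [← Subgroup.normalCore_eq_ker, hcore]
    have := Subgroup.card_dvd_of_injective _ ((MonoidHom.ker_eq_bot_iff _).1 hker)
    rwa [Nat.card_perm, ← Subgroup.index_eq_card] at this
  have hcases : (Nat.card G = 840 ∧ N.index = 7) ∨ Nat.card G = 2520 := by
    have hmem : Nat.card G ∈ Nat.divisors 20160 := Nat.mem_divisors.2 ⟨hGd, by norm_num⟩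
    have hNmem : N.index ∈ Nat.divisors (Nat.card G) :=
      Nat.mem_divisors.2 ⟨N.index_dvd_card, Nat.card_pos.ne'⟩
    have hd : 120 * N.index ∣ Nat.card G := hi ▸ mul_dvd_mul_right h120 _
    have hall : ∀ n ∈ Nat.divisors 20160, ¬ 16 ∣ n → ∀ i ∈ Nat.divisors n, 120 * i ∣ n → i ≠ 1 →
        n ∣ i.factorial → (n = 840 ∧ i = 7) ∨ n = 2520 := by decide +kernel
    exact hall _ hmem h16 _ hNmem hd hi1 hfac
  rcases hcases with ⟨h840, h7⟩ | h2520
  · exfalso
    have hker : (MulAction.toPermHom G (G ⧸ N)).ker = ⊥ := by rw [← Subgroup.normalCore_eq_ker, hcore]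
    let e : (G ⧸ N) ≃ Fin 7 := Finite.equivFinOfCardEq (by rw [← Subgroup.index_eq_card, h7])
    let ψ : G →* Equiv.Perm (Fin 7) := e.permCongrHom.toMonoidHom.comp (MulAction.toPermHom G (G ⧸ N))
    have hψ : Function.Injective ψ := e.permCongrHom.injective.comp ((MonoidHom.ker_eq_bot_iff _).1 hker)
    exact card_ne_840 ψ.range (by
      rw [← Nat.card_congr (MonoidHom.ofInjective hψ).toEquiv, h840])
  · have hidx : φ.range.index = 7 + 1 := by
      have h := φ.range.card_mul_index
      rw [← Nat.card_congr (MonoidHom.ofInjective hφ).toEquiv, h2520, hA8] at h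
      omega
    obtain ⟨e⟩ := IndexNStab.alt_index (m := 7) (by norm_num) φ.range hidx
    exact ⟨(MonoidHom.ofInjective hφ).trans e⟩

end SConf

end Cfsg.Agent.Lib.NatSL2Sylow65
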