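import Cfsg.Agent.Lib.NatSL2Sylow65.Basic

/-!
# The root lines meet trivially unless `|F| = 4`

If a Sylow `p`-subgroup of `G` normalises `L`, then either `L` is normal or `|F| = 4` and some Sylow
`2`-subgroup contains an element which is semilinear and not linear.
-/

set_option autoImplicit false
set_option linter.unusedSectionVars false
set_option linter.style.haveILetI false

namespace Cfsg.Agent.Lib.NatSL2Sylow65

open Matrix Cfsg.Agent.Lib.Linear
open scoped Pointwise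

variable {G : Type*} [Group G] [Finite G] {F : Type*} [Field F] [Fintype F] [DistribMulAction G (Fin 2 → F)]
  {p : ℕ} [Fact p.Prime] [CharP F p]

/-- A configuration with a Sylow subgroup containing the root group and normalising `L`. -/
structure SConf (G : Type*) [Group G] (F : Type*) [Field F] [DistribMulAction G (Fin 2 → F)] (p : ℕ)
    extends Conf G F where
  /-- the Sylow subgroup -/
  T : Sylow p G
  T_le : (T : Subgroup G) ≤ Subgroup.normalizer (toConf.L : Set G)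
  u_mem : ∀ x : F, toConf.u x ∈ (T : Subgroup G)

namespace SConf

variable (s : SConf G F p)

local notation "TT" => ((s.T : Sylow p G) : Subgroup G)

theorem mem_T_inter_L {A : SL2 F} (h : s.σ A ∈ TT) : ∃ x : F, s.σ A = s.u x := by
  have hp : IsPGroup p ↥((TT).comap s.σ) := s.T.isPGroup'.comap_of_injective _ s.σ_injective
  have hle : ((sylowU_SL (F := F) p : Sylow p (SL2 F)) : Subgroup (SL2 F)) ≤ (TT).comap s.σ := by
    rintro _ ⟨t, rfl⟩
    exact s.u_mem t.toAdd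
  have h1 : A ∈ ((sylowU_SL (F := F) p : Sylow p (SL2 F)) : Subgroup (SL2 F)) := by
    rw [← (sylowU_SL (F := F) p).is_maximal' hp hle]
    exact h
  obtain ⟨t, rfl⟩ := h1
  exact ⟨t.toAdd, rfl⟩

theorem T_le_N₀ : TT ≤ s.N₀ := by
  intro t ht
  obtain ⟨A, hA⟩ : t * s.u 1 * t⁻¹ ∈ s.L :=
    (Subgroup.mem_normalizer_iff.1 (s.T_le ht) _).1 (s.u_mem_L 1)
  obtain ⟨y, hy⟩ := s.mem_T_inter_L (A := A)
    (by rw [hA]; exact mul_mem (mul_mem ht (s.u_mem 1)) (inv_mem ht))
  have hy0 : y ≠ 0 := by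
    rintro rfl
    rw [s.u_zero, hA, mul_inv_eq_one, mul_eq_left, ← s.u_zero] at hy
    exact one_ne_zero (s.u_injective hy)
  have he : s.u y = t * s.u 1 * t⁻¹ := by rw [← hy, hA]
  refine s.mem_N₀_of_maps fun v hv => (s.u_smul_eq_self hy0).1 ?_
  rw [he, mul_smul, mul_smul, inv_smul_smul, s.u_smul_of_axis 1 hv]

theorem semi_T {t : G} (ht : t ∈ TT) : ∃ τ : F →+* F, Semi t τ := s.semi_of_normalizes (s.T_le ht)

theorem K_le_u {g : G} (hg : g ∈ s.K) : ∃ x : F, g = s.u x := by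
  have hK : IsPGroup p ↥s.K := fun k => ⟨1, Subtype.ext (by simp [s.pow_p_of_mem_K k.2])⟩
  have hn : TT ≤ Subgroup.normalizer (s.K : Set G) := fun t ht =>
    Subgroup.mem_normalizer_iff.2 fun k => ⟨s.conj_mem_K (s.T_le_N₀ ht), fun hk => by
      have h := s.conj_mem_K (s.T_le_N₀ (inv_mem ht)) hk
      rwa [show t⁻¹ * (t * k * t⁻¹) * t⁻¹⁻¹ = k by group] at h⟩
  have hsup : IsPGroup p ↥(TT ⊔ s.K) := IsPGroup.to_sup_of_normal_right' s.T.isPGroup' hK hn
  have hgT : g ∈ TT := s.T.is_maximal' hsup le_sup_left ▸ Subgroup.mem_sup_right hg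
  obtain ⟨τ, hτ⟩ := s.semi_T hgT
  have h1 : τ = 1 := by
    refine hτ.unique fun a v => ?_
    have h2 : ∀ b : F, τ b = b := fun b => by
      have h3 := hτ b (![1, 0] : Fin 2 → F)
      rw [(s.mem_K.1 hg).1 _ (by simp), (s.mem_K.1 hg).1 _ (by simp)] at h3
      simpa using (congrFun h3 0).symm
    rw [hτ, h2]; rfl
  exact s.eq_u_of_linear (p := p) (h1 ▸ hτ) (s.K_le_N₀ hg) (k := 1)
    (by rw [pow_one]; exact s.pow_p_of_mem_K hg)

theorem conj_u_mem_of_N₀ {g : G} (hg : g ∈ s.N₀) (x : F) : ∃ y : F, g * s.u x * g⁻¹ = s.u y :=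
  s.K_le_u (s.conj_mem_K hg (s.u_mem_K x))

/-- If root lines meet trivially then `L` is normal. -/
theorem normal_of_spread (h : ∀ (g : G) (d : Fin 2 → F), d ≠ 0 → d 1 = 0 → (g • d) 1 = 0 → g ∈ s.N₀) :
    s.L.Normal := by
  have key : ∀ (g : G) (x : F), g * s.u x * g⁻¹ ∈ s.L := by
    intro g x
    obtain ⟨A, hA⟩ : ∃ A : SL2 F, A.1 *ᵥ (![1, 0] : Fin 2 → F) = g • ![1, 0] := by
      set v := g • (![1, 0] : Fin 2 → F)
      have hv : v ≠ 0 := smul_ne_zero_of fun h0 => one_ne_zero (congrFun h0 0)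
      by_cases h0 : v 0 = 0
      · have h1 : v 1 ≠ 0 := fun h1 => hv (by ext i; fin_cases i <;> simp [h0, h1])
        refine ⟨⟨!![0, -(v 1)⁻¹; v 1, 0], by simp [Matrix.det_fin_two, h1]⟩, ?_⟩
        ext i; fin_cases i <;> simp [Matrix.mulVec, dotProduct, Fin.sum_univ_two, h0]
      · refine ⟨⟨!![v 0, 0; v 1, (v 0)⁻¹], by simp [Matrix.det_fin_two, h0]⟩, ?_⟩
        ext i; fin_cases i <;> simp [Matrix.mulVec, dotProduct, Fin.sum_univ_two]
    have hfix : ((s.σ A)⁻¹ * g) • (![1, 0] : Fin 2 → F) = ![1, 0] := by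
      rw [mul_smul, ← hA, ← s.act, inv_smul_smul]
    have hN : (s.σ A)⁻¹ * g ∈ s.N₀ :=
      h _ ![1, 0] (fun h0 => one_ne_zero (congrFun h0 0)) (by simp) (by rw [hfix]; simp)
    obtain ⟨y, hy⟩ := s.conj_u_mem_of_N₀ hN x
    have he : g * s.u x * g⁻¹ = s.σ A * s.u y * (s.σ A)⁻¹ := by rw [← hy]; group
    rw [he]
    exact mul_mem (mul_mem ⟨A, rfl⟩ (s.u_mem_L y)) (inv_mem ⟨A, rfl⟩)
  refine ⟨fun n hn g => ?_⟩
  obtain ⟨A, rfl⟩ := hn
  suffices htop : s.L.comap ((MulAut.conj g).toMonoidHom.comp s.σ) = ⊤ by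
    have hA : A ∈ s.L.comap ((MulAut.conj g).toMonoidHom.comp s.σ) := htop ▸ Subgroup.mem_top A
    exact hA
  refine sl_eq_top_of_transvection_mem _ fun i j hij x => ?_
  show g * s.σ (Matrix.SpecialLinearGroup.transvection hij x) * g⁻¹ ∈ s.L
  fin_cases i <;> fin_cases j
  · exact absurd rfl hij
  · exact key g x
  · let W : SL2 F := ⟨!![0, -1; 1, 0], by simp [Matrix.det_fin_two]⟩
    have hW : Matrix.SpecialLinearGroup.transvection hij x * W
        = W * uSL (Multiplicative.ofAdd (-x)) := by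
      apply Matrix.SpecialLinearGroup.ext
      intro a b
      rw [Matrix.SpecialLinearGroup.coe_mul, Matrix.SpecialLinearGroup.coe_mul, coe_uSL,
        Matrix.SpecialLinearGroup.transvection_coe]
      fin_cases a <;> fin_cases b <;> simp [W, Matrix.mul_apply, Fin.sum_univ_two]
    have hW' := eq_mul_inv_of_mul_eq hW
    rw [hW', map_mul, map_mul, map_inv]
    have h1 := key (g * s.σ W) (-x)
    rw [show g * s.σ W * s.u (-x) * (g * s.σ W)⁻¹ = g * (s.σ W * s.u (-x) * (s.σ W)⁻¹) * g⁻¹ by group] at h1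
    exact h1
  · exact absurd rfl hij

/-- The vectors of the first axis sent by `g` into the first axis. -/
def Ax (g : G) : Set (Fin 2 → F) := {v | v 1 = 0 ∧ (g • v) 1 = 0}

/-- The consequences of two root lines meeting nontrivially. -/
structure Bad (s : SConf G F p) : Prop where
  two : p = 2
  four : Fintype.card F = 4
  semi : ∃ t ∈ (s.T : Subgroup G), ∃ τ : F →+* F, Semi t τ ∧ τ ≠ 1
  line : ∃ g : G, g ∉ s.N₀ ∧ ∃ d : Fin 2 → F, d ≠ 0 ∧ d 1 = 0 ∧ (g • d) 1 = 0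

theorem bad_of {g₁ : G} (hg₁ : g₁ ∉ s.N₀) {d₁ : Fin 2 → F} (hd₁ : d₁ ≠ 0) (hd₁1 : d₁ 1 = 0)
    (hgd₁ : (g₁ • d₁) 1 = 0) : s.Bad := by
  classical
  have hp : p.Prime := Fact.out
  -- maximal choice
  obtain ⟨g₀, hg₀, hmax⟩ : ∃ g₀ : G, g₀ ∉ s.N₀ ∧ ∀ g : G, g ∉ s.N₀ →
      (Ax (F := F) g).ncard ≤ (Ax (F := F) g₀).ncard := by
    obtain ⟨g₀, hg₀, h⟩ := Set.exists_max_image {g : G | g ∉ s.N₀} (fun g => (Ax (F := F) g).ncard)
      (Set.toFinite _) ⟨g₁, hg₁⟩
    exact ⟨g₀, hg₀, h⟩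
  -- the elements of the root group normalising the other line, moved into `T`
  let Q₀ : Subgroup G :=
    { carrier := {w | w ∈ s.N₀ ∧ ∃ c : F, w = g₀⁻¹ * s.u c * g₀}
      one_mem' := ⟨one_mem _, 0, by simp [s.u_zero]⟩
      mul_mem' := fun {a b} ⟨ha, x, hx⟩ ⟨hb, y, hy⟩ => ⟨mul_mem ha hb, x + y, by
        rw [hx, hy, ← s.u_add]; group⟩
      inv_mem' := fun {a} ⟨ha, x, hx⟩ => ⟨inv_mem ha, -x, by rw [hx, ← s.u_inv]; group⟩ }
  let Q : Subgroup ↥s.N₀ := Q₀.subgroupOf s.N₀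
  have hQ : IsPGroup p ↥Q := by
    intro w
    obtain ⟨-, c, hc⟩ : ((w : ↥s.N₀) : G) ∈ Q₀ := Subgroup.mem_subgroupOf.1 w.2
    refine ⟨1, Subtype.ext (Subtype.ext ?_)⟩
    rw [pow_one, SubgroupClass.coe_pow, SubgroupClass.coe_pow, hc]
    have h1 : (g₀⁻¹ * s.u c * g₀) ^ p = g₀⁻¹ * s.u c ^ p * g₀ := by
      simpa using conj_pow (i := p) (a := g₀⁻¹) (b := s.u c)
    rw [h1, s.u_pow, CharP.cast_eq_zero, zero_mul, s.u_zero]
    simp
  obtain ⟨R, hR⟩ := hQ.exists_le_sylow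
  obtain ⟨h₀, hh₀⟩ := MulAction.exists_smul_eq ↥s.N₀ R (s.T.subtype s.T_le_N₀)
  set h : G := ((h₀⁻¹ : ↥s.N₀) : G)
  have hhN : h ∈ s.N₀ := (h₀⁻¹).2
  set g := g₀ * h
  have hcard : ∀ k : G, (Ax (F := F) (k * h)).ncard = (Ax (F := F) k).ncard := by
    intro k
    have he : Ax (F := F) k = (fun v => h • v) '' Ax (k * h) := by
      ext v
      simp only [Ax, Set.mem_image, Set.mem_ofPred_eq]
      constructor
      · rintro ⟨hv, hkv⟩
        exact ⟨h⁻¹ • v, ⟨(s.mem_N₀.1 (inv_mem hhN) v).1 hv, by rwa [mul_smul, smul_inv_smul]⟩,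
          smul_inv_smul _ _⟩
      · rintro ⟨w, ⟨hw, hkw⟩, rfl⟩
        exact ⟨(s.mem_N₀.1 hhN w).1 hw, by rwa [← mul_smul]⟩
    rw [he, Set.ncard_image_of_injective _ (MulAction.injective h)]
  have hgN : g ∉ s.N₀ := fun hc => hg₀ (by simpa [g] using mul_mem hc (inv_mem hhN))
  have hinT : ∀ c : F, g⁻¹ * s.u c * g ∈ s.N₀ → g⁻¹ * s.u c * g ∈ TT := by
    intro c hc
    have hw : g₀⁻¹ * s.u c * g₀ ∈ s.N₀ := by
      have h1 := mul_mem (mul_mem hhN hc) (inv_mem hhN)
      rwa [show h * (g⁻¹ * s.u c * g) * h⁻¹ = g₀⁻¹ * s.u c * g₀ by simp only [g]; group] at h1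
    have h2 : (⟨_, hw⟩ : ↥s.N₀) ∈ (R : Subgroup ↥s.N₀) :=
      hR (Subgroup.mem_subgroupOf.2 ⟨hw, c, rfl⟩)
    have h3 : h₀ * ⟨_, hw⟩ * h₀⁻¹ ∈ ((s.T.subtype s.T_le_N₀ : Sylow p ↥s.N₀) : Subgroup ↥s.N₀) := by
      rw [← hh₀, Sylow.coe_subgroup_smul, Subgroup.mem_pointwise_smul_iff_inv_smul_mem]
      simpa [MulAut.smul_def, MulAut.inv_apply, MulAut.conj_symm_apply, mul_assoc] using h2
    rw [Sylow.coe_subtype, Subgroup.mem_subgroupOf] at h3
    rw [show g⁻¹ * s.u c * g = (h₀ : G) * (g₀⁻¹ * s.u c * g₀) * (h₀ : G)⁻¹ by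
      simp only [g, h, Subgroup.coe_inv]; group]
    simpa using h3
  -- a vector of the axis leaving it
  obtain ⟨v₁, hv₁, hx⟩ : ∃ v₁ : Fin 2 → F, v₁ 1 = 0 ∧ (g • v₁) 1 ≠ 0 := by
    by_contra hc
    push Not at hc
    exact hgN (s.mem_N₀_of_maps hc)
  let cOf : (Fin 2 → F) → F := fun d => (g • d) 0 / (g • v₁) 1
  have step : ∀ d ∈ Ax (F := F) g, g⁻¹ * s.u (cOf d) * g ∈ TT := by
    rintro d ⟨hd, hgd⟩
    refine hinT _ ?_
    by_contra hne
    have hfix : ∀ v ∈ Ax (F := F) g, (g⁻¹ * s.u (cOf d) * g) • v = v := fun v hv => by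
      rw [mul_smul, mul_smul, s.u_smul_of_axis _ hv.2, inv_smul_smul]
    have hmove : (g⁻¹ * s.u (cOf d) * g) • v₁ = v₁ + d := by
      rw [mul_smul, mul_smul, inv_smul_eq_iff, smul_add, s.u_smul, div_mul_cancel₀ _ hx]
      ext i; fin_cases i
      · simp
      · simpa using hgd
    have hsub : insert v₁ (Ax (F := F) g) ⊆ Ax (g⁻¹ * s.u (cOf d) * g) := by
      refine Set.insert_subset ⟨hv₁, by rw [hmove]; simp [hv₁, hd]⟩ fun v hv => ⟨hv.1, ?_⟩
      rw [hfix v hv]; exact hv.1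
    have hlt := Set.ncard_le_ncard hsub (Set.toFinite _)
    rw [Set.ncard_insert_of_notMem (fun hm => hx hm.2) (Set.toFinite _)] at hlt
    have h1 := hmax _ hne
    rw [hcard g₀] at hlt
    omega
  -- a nontrivial element
  obtain ⟨d₀, hd₀, hd₀g⟩ : ∃ d₀ : Fin 2 → F, d₀ ≠ 0 ∧ d₀ ∈ Ax (F := F) g := by
    by_contra hc
    push Not at hc
    have hle : Ax (F := F) g ⊆ {0} := fun v hv => by
      by_contra hv0
      exact hc v hv0 hv
    have h2 := Set.ncard_le_ncard hle (Set.toFinite _)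
    rw [Set.ncard_singleton, hcard] at h2
    have h3 : ({0, d₁} : Set (Fin 2 → F)) ⊆ Ax (F := F) g₁ := by
      rintro v (rfl | rfl)
      · exact ⟨rfl, by rw [smul_zero]; rfl⟩
      · exact ⟨hd₁1, hgd₁⟩
    have h4 := Set.ncard_le_ncard h3 (Set.toFinite _)
    rw [Set.ncard_pair hd₁.symm] at h4
    have := hmax _ hg₁
    omega
  have hfix_iff : ∀ {c : F}, c ≠ 0 → ∀ v : Fin 2 → F,
      (g⁻¹ * s.u c * g) • v = v ↔ (g • v) 1 = 0 := by
    intro c hc v
    rw [mul_smul, mul_smul, inv_smul_eq_iff, s.u_smul_eq_self hc]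
  have hpk : ∀ c : F, (g⁻¹ * s.u c * g) ^ p = 1 := by
    intro c
    have h1 : (g⁻¹ * s.u c * g) ^ p = g⁻¹ * s.u c ^ p * g := by
      simpa using conj_pow (i := p) (a := g⁻¹) (b := s.u c)
    rw [h1, s.u_pow, CharP.cast_eq_zero, zero_mul, s.u_zero]
    simp
  -- linear implies trivial
  have hlin : ∀ c : F, g⁻¹ * s.u c * g ∈ TT → Semi (g⁻¹ * s.u c * g) (1 : F →+* F) → c = 0 := by
    intro c hT hs
    by_contra hc
    obtain ⟨b, hb⟩ := s.eq_u_of_linear (p := p) hs (s.T_le_N₀ hT) (k := 1) (by rw [pow_one, hpk])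
    have hb0 : b ≠ 0 := by
      rintro rfl
      rw [s.u_zero, mul_assoc, inv_mul_eq_one, eq_comm, mul_eq_right, ← s.u_zero] at hb
      exact hc (s.u_injective hb)
    refine hgN (s.mem_N₀_of_maps fun v hv => ?_)
    have h1 := (s.u_smul_eq_self hb0).2 hv
    rw [← hb, hfix_iff hc] at h1
    exact h1
  -- the field maps
  have hfield : ∀ c : F, c ≠ 0 → g⁻¹ * s.u c * g ∈ TT → ∀ τ : F →+* F, Semi (g⁻¹ * s.u c * g) τ →
      τ ≠ 1 ∧ τ * τ = 1 ∧ p = 2 ∧ ∀ b : F, τ b = b ↔ b • d₀ ∈ Ax (F := F) g := by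
    intro c hc hT τ hs
    set w := g⁻¹ * s.u c * g
    have hne : τ ≠ 1 := fun e => hc (hlin c hT (e ▸ hs))
    have hquad : ∀ v : Fin 2 → F, w • (w • v) + v = w • v + w • v := by
      intro v
      simp only [w, mul_smul, smul_inv_smul]
      apply MulAction.injective g
      simp only [smul_add, smul_inv_smul]
      rw [s.u_smul, s.u_smul]
      ext i; fin_cases i <;> simp; ring
    set a := (w • (![1, 0] : Fin 2 → F)) 0
    have hwe : w • (![1, 0] : Fin 2 → F) = a • ![1, 0] := by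
      have h1 := eq_smul_axis ((s.mem_N₀.1 (s.T_le_N₀ hT) ![1, 0]).1 (by simp))
      exact h1
    have hE : ∀ b : F, τ (τ b) * τ a * a + b = τ b * a + τ b * a := by
      intro b
      have h1 := congrFun (hquad (b • (![1, 0] : Fin 2 → F))) 0
      have hb : ∀ b : F, w • (b • (![1, 0] : Fin 2 → F)) = (τ b * a) • ![1, 0] := fun b => by
        rw [hs, hwe, smul_smul]
      rw [hb, hb] at h1
      simp [map_mul] at h1
      linear_combination h1
    have hinv : ∀ b : F, τ (τ b) = b := by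
      have h1 := hE 1
      simp only [map_one, one_mul] at h1
      have h3 : ∀ e : F, 2 * a * (τ (τ e) - τ e) = τ (τ e) - e := by
        intro e
        have h4 := hE e
        linear_combination h4 - τ (τ e) * h1
      intro e
      by_contra he
      apply hne
      ext x
      show τ x = x
      have h5 := h3 (x * e)
      simp only [map_mul] at h5
      have h6 : (τ (τ e) - e) * (τ x - x) = 0 := by
        linear_combination h5 - (τ (τ e)) * h3 x - τ x * h3 e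
      exact sub_eq_zero.1 ((mul_eq_zero.1 h6).resolve_left (sub_ne_zero.2 he))
    have hττ : τ * τ = 1 := RingHom.ext hinv
    have hτp : τ ^ p = 1 := Semi.unique (hs.pow p) (by rw [hpk c]; exact semi_one)
    have h2 : p = 2 := by
      have hord : orderOf τ = 2 := orderOf_eq_prime (by rw [pow_two, hττ]) hne
      have h7 := orderOf_dvd_of_pow_eq_one hτp
      rw [hord] at h7
      exact ((Nat.prime_dvd_prime_iff_eq Nat.prime_two hp).1 h7).symm
    refine ⟨hne, hττ, h2, fun b => ?_⟩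
    have hd0 : w • d₀ = d₀ := (hfix_iff hc d₀).2 hd₀g.2
    have hb : w • (b • d₀) = τ b • d₀ := by rw [hs, hd0]
    constructor
    · intro hτb
      refine ⟨by simp [hd₀g.1], (hfix_iff hc _).1 ?_⟩
      rw [hb, hτb]
    · intro hm
      have h8 := ((hfix_iff hc _).2 hm.2).symm.trans hb
      exact (smul_left_injective F hd₀ h8).symm
  -- the element attached to `d₀`
  have hc₀ : cOf d₀ ≠ 0 := by
    refine div_ne_zero (fun h0 => smul_ne_zero_of (g := g) hd₀ ?_) hx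
    ext i; fin_cases i
    · exact h0
    · exact hd₀g.2
  obtain ⟨τ, hτ⟩ := s.semi_T (step d₀ hd₀g)
  obtain ⟨hne, hττ, h2, hΦ⟩ := hfield _ hc₀ (step d₀ hd₀g) τ hτ
  subst h2
  -- uniqueness
  have huniq : ∀ d ∈ Ax (F := F) g, d = 0 ∨ d = d₀ := by
    intro d hd
    by_contra hcon
    push Not at hcon
    have hcd : cOf d ≠ 0 := by
      refine div_ne_zero (fun h0 => smul_ne_zero_of (g := g) hcon.1 ?_) hx
      ext i; fin_cases i
      · exact h0
      · exact hd.2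
    obtain ⟨τ', hτ'⟩ := s.semi_T (step d hd)
    obtain ⟨-, hττ', -, hΦ'⟩ := hfield _ hcd (step d hd) τ' hτ'
    have hfixeq : ∀ b, τ b = b ↔ τ' b = b := fun b => (hΦ b).trans (hΦ' b).symm
    have heq : τ' = τ := by
      ext x
      have e1 : τ (τ x) = x := congrFun (congrArg DFunLike.coe hττ) x
      have hs1 : τ' (x + τ x) = x + τ x := (hfixeq _).1 (by rw [map_add, e1, add_comm])
      have hs2 : τ' (x * τ x) = x * τ x := (hfixeq _).1 (by rw [map_mul, e1, mul_comm])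
      rw [map_add] at hs1
      rw [map_mul] at hs2
      have h9 : (τ' x - x) * (τ' x - τ x) = 0 := by linear_combination (τ' x) * hs1 - hs2
      rcases mul_eq_zero.1 h9 with h10 | h10
      · have h11 := (hfixeq x).2 (sub_eq_zero.1 h10)
        rw [sub_eq_zero.1 h10, h11]
      · exact sub_eq_zero.1 h10
    have hsum := hlin (cOf d + cOf d₀) (by
        have := mul_mem (step d hd) (step d₀ hd₀g)
        rwa [show g⁻¹ * s.u (cOf d) * g * (g⁻¹ * s.u (cOf d₀) * g) = g⁻¹ * s.u (cOf d + cOf d₀) * g by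
          rw [← s.u_add]; group] at this) (by
        rw [show g⁻¹ * s.u (cOf d + cOf d₀) * g = g⁻¹ * s.u (cOf d) * g * (g⁻¹ * s.u (cOf d₀) * g) by
          rw [← s.u_add]; group, ← hττ]
        exact (heq ▸ hτ').mul hτ)
    have h12 : cOf d = cOf d₀ := CharTwo.add_eq_zero.1 hsum
    simp only [cOf, div_left_inj' hx] at h12
    apply hcon.2
    apply MulAction.injective g
    ext i; fin_cases i
    · exact h12
    · exact hd.2.trans hd₀g.2.symm
  have hΦ2 : ∀ b : F, τ b = b → b = 0 ∨ b = 1 := by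
    intro b hb
    rcases huniq _ ((hΦ b).1 hb) with h | h
    · exact Or.inl ((smul_eq_zero.1 h).resolve_right hd₀)
    · exact Or.inr (smul_left_injective F hd₀ (h.trans (one_smul F d₀).symm))
  obtain ⟨x, hxne⟩ : ∃ x : F, τ x ≠ x := by
    by_contra hc
    push Not at hc
    exact hne (RingHom.ext hc)
  have hτx : τ x = x + 1 := by
    have e1 : τ (τ x) = x := congrFun (congrArg DFunLike.coe hττ) x
    rcases hΦ2 (x + τ x) (by rw [map_add, e1, add_comm]) with h | h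
    · exact absurd (CharTwo.add_eq_zero.1 h).symm hxne
    · rw [← h, ← add_assoc, CharTwo.add_self_eq_zero, zero_add]
  have hall : ∀ y : F, y = 0 ∨ y = 1 ∨ y = x ∨ y = x + 1 := by
    intro y
    by_cases hy : τ y = y
    · rcases hΦ2 y hy with h | h <;> simp [h]
    · have e1 : τ (τ y) = y := congrFun (congrArg DFunLike.coe hττ) y
      rcases hΦ2 (y + τ y) (by rw [map_add, e1, add_comm]) with h | h
      · exact absurd (CharTwo.add_eq_zero.1 h).symm hy
      · have hty : τ y = y + 1 := by rw [← h, ← add_assoc, CharTwo.add_self_eq_zero, zero_add]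
        rcases hΦ2 (y + x) (by
          rw [map_add, hty, hτx, show y + 1 + (x + 1) = y + x + (1 + 1) by ring,
            CharTwo.add_self_eq_zero, add_zero]) with h' | h'
        · exact Or.inr (Or.inr (Or.inl (CharTwo.add_eq_zero.1 h')))
        · refine Or.inr (Or.inr (Or.inr ?_))
          rw [← h', add_comm y x, ← add_assoc, CharTwo.add_self_eq_zero, zero_add]
  have hcard4 : Fintype.card F = 4 := by
    have hx0 : x ≠ 0 := fun e => hxne (by rw [e, map_zero])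
    have hx1 : x ≠ 1 := fun e => hxne (by rw [e, map_one])
    have hx2 : x + 1 ≠ 0 := fun e => hx1 (CharTwo.add_eq_zero.1 e)
    have hx3 : x + 1 ≠ 1 := fun e => hx0 (add_eq_right.1 e)
    have hx4 : x + 1 ≠ x := fun e => one_ne_zero (add_eq_left.1 e)
    rw [← Finset.card_univ, show (Finset.univ : Finset F) = {0, 1, x, x + 1} by
      ext y; simp [hall y]]
    rw [Finset.card_insert_of_notMem (by simp [hx0.symm, hx2.symm]),
      Finset.card_insert_of_notMem (by simp [hx1.symm, hx3.symm]),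
      Finset.card_insert_of_notMem (by simp [hx4.symm]), Finset.card_singleton]
  exact ⟨rfl, hcard4, ⟨_, step d₀ hd₀g, τ, hτ, hne⟩, ⟨g₁, hg₁, d₁, hd₁, hd₁1, hgd₁⟩⟩

theorem normal_or_bad : s.L.Normal ∨ s.Bad := by
  by_cases h : ∀ (g : G) (d : Fin 2 → F), d ≠ 0 → d 1 = 0 → (g • d) 1 = 0 → g ∈ s.N₀
  · exact Or.inl (s.normal_of_spread h)
  · push Not at h
    obtain ⟨g, d, hd, hd1, hgd, hg⟩ := h
    exact Or.inr (s.bad_of hg hd hd1 hgd)

end SConf

end Cfsg.Agent.Lib.NatSL2Sylow65
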